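import Mathlib
import Cfsg.Agent.Helper14.GLk.Defs

/-!
# S2479 (class number of SL_n(q)): shared definitions for the piece project

`eps h`     : `(-1)^deg h * h(0)` (product of the roots of a monic `h`).
`dett n t`  : determinant attached to a tuple `t = (h_1, …, h_n)`: `∏ m, eps (h_m) ^ m`.
`parts t`   : the set of `m` with `deg h_m ≥ 1`.
`D t`       : the subgroup of `Fˣ` generated by the `m`-th powers, `m ∈ parts t`.
`idx t`     : the index of `D t` in `Fˣ`.
`mulDet f u`: determinant of multiplication by `u` on the `F`-space `F[X] ⧸ (f)`.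
-/

set_option autoImplicit false

namespace Cfsg.Agent.S2479P

open Polynomial

/-- `(-1)^deg h * h(0)`: the product of the roots of a monic polynomial `h`. -/
def eps {F : Type*} [Field F] (h : F[X]) : F := (-1) ^ h.natDegree * h.coeff 0

/-- the determinant attached to a tuple `t = (h_1, …, h_n)`. -/
def dett {F : Type*} [Field F] (n : ℕ) (t : ℕ → F[X]) : F :=
  ∏ m ∈ Finset.range (n + 1), eps (t m) ^ m

/-- the parts of a tuple: the `m` with `deg h_m ≥ 1`. -/
def parts {F : Type*} [Field F] (t : ℕ → F[X]) : Set ℕ := {m | 1 ≤ (t m).natDegree}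

/-- the subgroup of `Fˣ` generated by the `m`-th powers, `m` a part of `t`. -/
def D {F : Type*} [Field F] (t : ℕ → F[X]) : Subgroup Fˣ :=
  ⨆ m ∈ parts t, (powMonoidHom m : Fˣ →* Fˣ).range

/-- the index of `D t` in `Fˣ`. -/
noncomputable def idx {F : Type*} [Field F] (t : ℕ → F[X]) : ℕ := (D t).index

/-- the determinant of multiplication by `u` on the `F`-vector space `F[X] ⧸ (f)`. -/
noncomputable def mulDet {F : Type*} [Field F] (f u : F[X]) : F :=
  LinearMap.det ((LinearMap.lsmul F[X] (F[X] ⧸ Submodule.span F[X] {f}) u).restrictScalars F)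

/-- The equation lemmas that Lean writes on demand are cited here once, so that they live in this file
and not (as separate copies) in each file that unfolds one of the definitions above. -/
theorem eqns_realized : True := by
  have := @eps.eq_1.{0}
  have := @dett.eq_1.{0}
  have := @parts.eq_1.{0}
  have := @D.eq_1.{0}
  have := @idx.eq_1.{0}
  have := @mulDet.eq_1.{0}
  trivial

end Cfsg.Agent.S2479P
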