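import Mathlib
import Cfsg.Agent.Helper14.SLk.Defs

set_option autoImplicit false

namespace Cfsg.Agent.S2479P

open Polynomial

/-- determinants of intertwined endomorphisms agree -/
theorem det_eq_of_intertwine {F V V' : Type*} [Field F] [AddCommGroup V] [Module F V]
    [AddCommGroup V'] [Module F V'] (e : V ≃ₗ[F] V') (a : V →ₗ[F] V) (b : V' →ₗ[F] V')
    (h : ∀ x, e (a x) = b (e x)) : LinearMap.det a = LinearMap.det b := by
  have hb : b = (e : V →ₗ[F] V') ∘ₗ a ∘ₗ (e.symm : V' →ₗ[F] V) := by
    refine LinearMap.ext (fun y => ?_)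
    show b y = e (a (e.symm y))
    rw [h, LinearEquiv.apply_symm_apply]
  rw [hb, LinearMap.det_conj]

/-- piece NORMDET: multiplicativity of `mulDet` in the modulus. -/
theorem mulDet_mul {F : Type*} [Field F] (f g u : F[X]) (hf : f.Monic) (hg : g.Monic) :
    mulDet (f * g) u = mulDet f u * mulDet g u := by
  classical
  have hfin : Module.Finite F (F[X] ⧸ Submodule.span F[X] {f * g}) :=
    (hf.mul hg).finite_adjoinRoot
  have hfinf : Module.Finite F (F[X] ⧸ Submodule.span F[X] {f}) := hf.finite_adjoinRoot
  have hfing : Module.Finite F (F[X] ⧸ Submodule.span F[X] {g}) := hg.finite_adjoinRoot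
  -- `α`: multiplication by `g`, from `F[X]/(f)` to `F[X]/(fg)`
  have hα0 : Submodule.span F[X] {f} ≤
      (Submodule.span F[X] {f * g}).comap (LinearMap.lsmul F[X] F[X] g) := by
    rw [Submodule.span_le]
    intro x hx
    rw [Set.mem_singleton_iff] at hx
    subst hx
    show g • x ∈ Submodule.span F[X] {x * g}
    rw [smul_eq_mul, mul_comm]
    exact Submodule.mem_span_singleton_self _
  let α : (F[X] ⧸ Submodule.span F[X] {f}) →ₗ[F[X]] (F[X] ⧸ Submodule.span F[X] {f * g}) :=
    Submodule.mapQ _ _ (LinearMap.lsmul F[X] F[X] g) hα0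
  have hβ0 : Submodule.span F[X] {f * g} ≤
      (Submodule.span F[X] {g}).comap (LinearMap.id : F[X] →ₗ[F[X]] F[X]) := by
    rw [Submodule.span_le]
    intro x hx
    rw [Set.mem_singleton_iff] at hx
    subst hx
    show f * g ∈ Submodule.span F[X] {g}
    exact Submodule.mem_span_singleton.2 ⟨f, by rw [smul_eq_mul]⟩
  let β : (F[X] ⧸ Submodule.span F[X] {f * g}) →ₗ[F[X]] (F[X] ⧸ Submodule.span F[X] {g}) :=
    Submodule.mapQ _ _ (LinearMap.id : F[X] →ₗ[F[X]] F[X]) hβ0
  have hαmk : ∀ r : F[X], α (Submodule.Quotient.mk r) = Submodule.Quotient.mk (g * r) :=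
    fun r => rfl
  have hβmk : ∀ r : F[X], β (Submodule.Quotient.mk r) = Submodule.Quotient.mk r :=
    fun r => rfl
  have hg0 : g ≠ 0 := hg.ne_zero
  have hα_inj : Function.Injective α := by
    rw [← LinearMap.ker_eq_bot, LinearMap.ker_eq_bot']
    intro x hx
    induction x using Submodule.Quotient.induction_on with
    | _ r =>
      rw [hαmk, Submodule.Quotient.mk_eq_zero, Submodule.mem_span_singleton] at hx
      obtain ⟨c, hc⟩ := hx
      rw [Submodule.Quotient.mk_eq_zero, Submodule.mem_span_singleton]
      refine ⟨c, ?_⟩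
      rw [smul_eq_mul] at hc ⊢
      have : g * (c * f) = g * r := by rw [← hc]; ring
      exact mul_left_cancel₀ hg0 this
  have hβ_surj : Function.Surjective β := by
    intro y
    induction y using Submodule.Quotient.induction_on with
    | _ r => exact ⟨Submodule.Quotient.mk r, hβmk r⟩
  have hker : LinearMap.ker β = LinearMap.range α := by
    ext x
    induction x using Submodule.Quotient.induction_on with
    | _ r =>
      rw [LinearMap.mem_ker, hβmk, Submodule.Quotient.mk_eq_zero, Submodule.mem_span_singleton,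
        LinearMap.mem_range]
      constructor
      · rintro ⟨c, hc⟩
        refine ⟨Submodule.Quotient.mk c, ?_⟩
        rw [hαmk, ← hc, smul_eq_mul, mul_comm g c]
      · rintro ⟨y, hy⟩
        induction y using Submodule.Quotient.induction_on with
        | _ c =>
          rw [hαmk, Submodule.Quotient.eq, Submodule.mem_span_singleton] at hy
          obtain ⟨d, hd⟩ := hy
          refine ⟨c - d * f, ?_⟩
          rw [smul_eq_mul] at hd ⊢
          have : r = g * c - d * (f * g) := by rw [hd]; ring
          rw [this]; ring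
  -- the `F`-subspace `W = range α`
  let W : Submodule F (F[X] ⧸ Submodule.span F[X] {f * g}) :=
    (LinearMap.range α).restrictScalars F
  let mu : (F[X] ⧸ Submodule.span F[X] {f * g}) →ₗ[F] (F[X] ⧸ Submodule.span F[X] {f * g}) :=
    (LinearMap.lsmul F[X] (F[X] ⧸ Submodule.span F[X] {f * g}) u).restrictScalars F
  have he : W ≤ W.comap mu := by
    intro w hw
    show u • w ∈ LinearMap.range α
    exact Submodule.smul_mem _ u hw
  have hdet := LinearMap.det_eq_det_mul_det W mu he
  show LinearMap.det mu = _
  rw [hdet]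
  congr 1
  · -- the restriction to `W`
    symm
    let e1 : (F[X] ⧸ Submodule.span F[X] {f}) ≃ₗ[F] W :=
      LinearEquiv.ofInjective (α.restrictScalars F) hα_inj
    refine det_eq_of_intertwine e1 _ _ (fun x => ?_)
    apply Subtype.ext
    show α (u • x) = u • α x
    exact map_smul α u x
  · -- the quotient by `W`
    have hW : W = LinearMap.ker (β.restrictScalars F) := by
      ext x
      show x ∈ LinearMap.range α ↔ β x = 0
      rw [← hker, LinearMap.mem_ker]
    let e2 : ((F[X] ⧸ Submodule.span F[X] {f * g}) ⧸ W) ≃ₗ[F] (F[X] ⧸ Submodule.span F[X] {g}) :=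
      (Submodule.quotEquivOfEq W _ hW).trans
        ((β.restrictScalars F).quotKerEquivOfSurjective hβ_surj)
    refine det_eq_of_intertwine e2 _ _ (fun x => ?_)
    induction x using Submodule.Quotient.induction_on with
    | _ m =>
      show β (u • m) = u • β m
      exact map_smul β u m

end Cfsg.Agent.S2479P
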