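import Mathlib
import Cfsg.Agent.Helper14.SLk.Defs
import Cfsg.Agent.Helper16.S2479DETSUM

set_option autoImplicit false

namespace Cfsg.Agent.S2479P

open Polynomial DirectSum

universe u

/-- piece TRANSPORT: an endomorphism of the block decomposition acting on the `i`-th block as
multiplication by `u i` gives a matrix commuting with `g`, of determinant `∏ mulDet`. -/
theorem exists_commuting_matrix {F : Type u} [Field F] (n : ℕ)
    (g : Matrix.GeneralLinearGroup (Fin n) F) {ι : Type u} [Fintype ι] (p : ι → F[X]) (e : ι → ℕ)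
    (hp : ∀ i, (p i).Monic ∧ 1 ≤ e i)
    (Φ : Nonempty (Module.AEval' (Matrix.toLin' (g : Matrix (Fin n) (Fin n) F)) ≃ₗ[F[X]]
        ⨁ i, F[X] ⧸ Submodule.span F[X] {p i ^ e i}))
    (u : ι → F[X]) :
    ∃ z : Matrix (Fin n) (Fin n) F, z * (g : Matrix (Fin n) (Fin n) F) =
        (g : Matrix (Fin n) (Fin n) F) * z ∧
      z.det = ∏ i, mulDet (p i ^ e i) (u i) ∧
      ((∀ i, u i = X) → z = (g : Matrix (Fin n) (Fin n) F)) := by
  classical
  obtain ⟨Φ⟩ := Φ
  set f := Matrix.toLin' (g : Matrix (Fin n) (Fin n) F) with hf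
  have hfin : ∀ i, Module.Finite F (F[X] ⧸ Submodule.span F[X] {p i ^ e i}) :=
    fun i => ((hp i).1.pow (e i)).finite_adjoinRoot
  -- the endomorphism of the direct sum
  let ψ : (⨁ i, F[X] ⧸ Submodule.span F[X] {p i ^ e i}) →ₗ[F[X]]
      ⨁ i, F[X] ⧸ Submodule.span F[X] {p i ^ e i} :=
    DFinsupp.mapRange.linearMap
      (fun i => LinearMap.lsmul F[X] (F[X] ⧸ Submodule.span F[X] {p i ^ e i}) (u i))
  let ζ : Module.AEval' f →ₗ[F[X]] Module.AEval' f :=
    Φ.symm.toLinearMap ∘ₗ ψ ∘ₗ Φ.toLinearMap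
  let ζF : (Fin n → F) →ₗ[F] (Fin n → F) :=
    (Module.AEval'.of f).symm.toLinearMap ∘ₗ (ζ.restrictScalars F) ∘ₗ
      (Module.AEval'.of f).toLinearMap
  have hcomm : ζF ∘ₗ f = f ∘ₗ ζF := by
    refine LinearMap.ext (fun v => ?_)
    show (Module.AEval'.of f).symm (ζ (Module.AEval'.of f (f v))) =
      f ((Module.AEval'.of f).symm (ζ (Module.AEval'.of f v)))
    rw [← Module.AEval'.X_smul_of, map_smul, Module.AEval'.of_symm_X_smul]
  refine ⟨LinearMap.toMatrix' ζF, ?_, ?_, ?_⟩
  · have h := congrArg LinearMap.toMatrix' hcomm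
    rw [LinearMap.toMatrix'_comp, LinearMap.toMatrix'_comp, hf, LinearMap.toMatrix'_toLin'] at h
    exact h
  · rw [LinearMap.det_toMatrix']
    -- conjugation invariance
    have h1 : LinearMap.det ζF = LinearMap.det (ζ.restrictScalars F) := by
      have := LinearMap.det_conj (ζ.restrictScalars F) (Module.AEval'.of f).symm
      rw [← this]
      rfl
    let ψF : (⨁ i, F[X] ⧸ Submodule.span F[X] {p i ^ e i}) →ₗ[F]
        ⨁ i, F[X] ⧸ Submodule.span F[X] {p i ^ e i} :=
      DFinsupp.mapRange.linearMap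
        (fun i => (LinearMap.lsmul F[X] (F[X] ⧸ Submodule.span F[X] {p i ^ e i})
          (u i)).restrictScalars F)
    have h2 : LinearMap.det (ζ.restrictScalars F) =
        LinearMap.det (M := ⨁ i, F[X] ⧸ Submodule.span F[X] {p i ^ e i}) ψF := by
      have := LinearMap.det_conj (M := ⨁ i, F[X] ⧸ Submodule.span F[X] {p i ^ e i}) ψF
        (Φ.restrictScalars F).symm
      rw [← this]
      rfl
    rw [h1, h2]
    have h3 := det_mapRange (R := F) (fun i => F[X] ⧸ Submodule.span F[X] {p i ^ e i})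
      (fun i => (LinearMap.lsmul F[X] (F[X] ⧸ Submodule.span F[X] {p i ^ e i})
          (u i)).restrictScalars F)
    exact h3
  · intro hu
    have hψ : ∀ x, ψ x = (X : F[X]) • x := by
      intro x
      refine DFinsupp.ext (fun i => ?_)
      show (u i) • x i = _
      rw [hu i]
      rfl
    have hζF : ζF = f := by
      refine LinearMap.ext (fun v => ?_)
      show (Module.AEval'.of f).symm (Φ.symm (ψ (Φ (Module.AEval'.of f v)))) = f v
      rw [hψ, ← map_smul, LinearEquiv.symm_apply_apply, Module.AEval'.of_symm_X_smul,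
        LinearEquiv.symm_apply_apply]
    rw [hζF, hf, LinearMap.toMatrix'_toLin']

end Cfsg.Agent.S2479P
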