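import Mathlib
import Cfsg.Agent.Helper14.GLk.Defs
import Cfsg.Agent.Helper14.SLk.Defs
import Cfsg.Agent.Helper15.S2479BLOCKX
import Cfsg.Agent.Helper15.S2479BLOCKU
import Cfsg.Agent.Helper14.SLk.NORMDET
import Cfsg.Agent.Helper14.SLk.TRANSPORT
import Cfsg.Agent.Helper15.S2479REGROUP

set_option autoImplicit false

namespace Cfsg.Agent.S2479P

open Polynomial DirectSum Cfsg.Agent.S2478P

universe u

theorem mulDet_one_right {F : Type*} [Field F] (f : F[X]) : mulDet f 1 = 1 := by
  unfold mulDet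
  have : (LinearMap.lsmul F[X] (F[X] ⧸ Submodule.span F[X] {f}) 1).restrictScalars F =
      LinearMap.id := by
    refine LinearMap.ext (fun x => ?_)
    show (1 : F[X]) • x = x
    exact one_smul _ x
  rw [this, LinearMap.det_id]

theorem mulDet_one_left {F : Type*} [Field F] (u : F[X]) : mulDet (1 : F[X]) u = 1 := by
  unfold mulDet
  have hs : Subsingleton (F[X] ⧸ Submodule.span F[X] {(1 : F[X])}) := by
    rw [Submodule.Quotient.subsingleton_iff]
    rw [show Submodule.span F[X] {(1 : F[X])} = ⊤ from Ideal.span_singleton_one]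
  exact LinearMap.det_eq_one_of_subsingleton _

theorem mulDet_pow {F : Type*} [Field F] (p u : F[X]) (hp : p.Monic) (e : ℕ) :
    mulDet (p ^ e) u = mulDet p u ^ e := by
  induction e with
  | zero => simp [mulDet_one_left]
  | succ e ih =>
    rw [pow_succ, mulDet_mul _ _ _ (hp.pow e) hp, ih, pow_succ]

end Cfsg.Agent.S2479P

namespace Cfsg.Agent.S2479P

open Polynomial DirectSum Cfsg.Agent.S2478P

universe u

/-- piece DETG (assembled): the determinant of `g` is the determinant attached to the tuple of any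
decomposition of `g`. -/
theorem det_eq_dett {F : Type u} [Field F] (n : ℕ)
    (g : Matrix.GeneralLinearGroup (Fin n) F) {ι : Type u} [Fintype ι] (p : ι → F[X]) (e : ι → ℕ)
    (hp : ∀ i, (p i).Monic ∧ 1 ≤ e i)
    (hsum : ∑ i, e i * (p i).natDegree = n)
    (Φ : Nonempty (Module.AEval' (Matrix.toLin' (g : Matrix (Fin n) (Fin n) F)) ≃ₗ[F[X]]
        ⨁ i, F[X] ⧸ Submodule.span F[X] {p i ^ e i})) :
    (g : Matrix (Fin n) (Fin n) F).det = dett n (fun m : ℕ => ∏ i with e i = m, p i) := by
  obtain ⟨z, -, hdet, hz⟩ := exists_commuting_matrix n g p e hp Φ (fun _ => X)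
  rw [hz (fun _ => rfl)] at hdet
  rw [hdet, ← prod_eps_eq_dett p e n hp hsum]
  refine Finset.prod_congr rfl (fun i _ => ?_)
  rw [mulDet_pow _ _ (hp i).1, mulDet_X _ (hp i).1]

/-- piece CENT (assembled): every `e i0`-th power of a unit is the determinant of an element of
the centralizer of `g`. -/
theorem exists_centralizing {F : Type u} [Field F] [Fintype F] (n : ℕ)
    (g : Matrix.GeneralLinearGroup (Fin n) F) {ι : Type u} [Fintype ι] (p : ι → F[X]) (e : ι → ℕ)
    (hp : ∀ i, (p i).Monic ∧ Irreducible (p i) ∧ 1 ≤ e i)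
    (Φ : Nonempty (Module.AEval' (Matrix.toLin' (g : Matrix (Fin n) (Fin n) F)) ≃ₗ[F[X]]
        ⨁ i, F[X] ⧸ Submodule.span F[X] {p i ^ e i}))
    (i0 : ι) (c : Fˣ) :
    ∃ z : Matrix.GeneralLinearGroup (Fin n) F, Commute z g ∧
      Matrix.GeneralLinearGroup.det z = c ^ e i0 := by
  classical
  obtain ⟨u0, hu0⟩ := exists_mulDet_eq (p i0) (hp i0).1 (hp i0).2.1 c
  obtain ⟨z, hcomm, hdet, -⟩ := exists_commuting_matrix n g p e
    (fun i => ⟨(hp i).1, (hp i).2.2⟩) Φ (fun i => if i = i0 then u0 else 1)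
  have hdet' : z.det = ((c ^ e i0 : Fˣ) : F) := by
    rw [hdet, Finset.prod_eq_single i0]
    · simp only [if_true]
      rw [mulDet_pow _ _ (hp i0).1, hu0]
      push_cast
      rfl
    · intro i _ hi
      simp only [if_neg hi]
      exact mulDet_one_right _
    · intro h
      exact absurd (Finset.mem_univ i0) h
  have hne : z.det ≠ 0 := by
    rw [hdet']
    exact Units.ne_zero _
  refine ⟨Matrix.GeneralLinearGroup.mkOfDetNeZero z hne, ?_, ?_⟩
  · apply Units.ext
    exact hcomm
  · apply Units.ext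
    exact hdet'

end Cfsg.Agent.S2479P
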