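import Mathlib
import Cfsg.Agent.Helper14.GLk.Defs
import Cfsg.Agent.Helper14.GLk.COUNTT
import Cfsg.Agent.Helper14.SLk.Defs
import Cfsg.Agent.Helper16.S2479IDXDVD
import Cfsg.Agent.Helper26.S2479DIVCOUNT

set_option autoImplicit false

namespace Cfsg.Agent.S2479P

open Polynomial Cfsg.Agent.S2478P

universe u

theorem idx_pos {F : Type*} [Field F] [Fintype F] (t : ℕ → F[X]) : 1 ≤ idx t := by
  unfold idx
  have : (D t).index ≠ 0 := Subgroup.index_ne_zero_of_finite
  omega

theorem idx_dvd_n {F : Type*} [Field F] [Fintype F] (n : ℕ) (t : ℕ → F[X]) (ht : t ∈ T F n n) :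
    idx t ∣ n := by
  obtain ⟨-, -, hsum⟩ := ht
  rw [← hsum]
  refine Finset.dvd_sum (fun m _ => ?_)
  by_cases hm : 1 ≤ (t m).natDegree
  · exact Dvd.dvd.mul_right ((idx_dvd t).2 m hm) _
  · have : (t m).natDegree = 0 := by omega
    rw [this, mul_zero]
    exact dvd_zero _

open Classical in
/-- piece SUMBOUND -/
theorem sum_idx_sq_le (F : Type u) [Field F] [Fintype F] (n : ℕ) (hn : 1 ≤ n)
    (hT : (T F n n).Finite) :
    ∑ t ∈ hT.toFinset, idx t ^ 2 ≤ A (Fintype.card F) n n +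
      ∑ d ∈ (Nat.gcd n (Fintype.card F - 1)).divisors.filter (fun d => 2 ≤ d),
        (d ^ 2 - 1) * A (Fintype.card F) (n / d) (n / d) := by
  set q := Fintype.card F with hq
  set S := hT.toFinset with hS
  set Dv := (Nat.gcd n (q - 1)).divisors with hDv
  have hgcd : Nat.gcd n (q - 1) ≠ 0 := by
    intro h
    have := Nat.eq_zero_of_gcd_eq_zero_left h
    omega
  have hmem : ∀ t ∈ S, idx t ∈ Dv := by
    intro t ht
    rw [hS, Set.Finite.mem_toFinset] at ht
    rw [hDv, Nat.mem_divisors]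
    exact ⟨Nat.dvd_gcd (idx_dvd_n n t ht) (idx_dvd t).1, hgcd⟩
  -- split `idx^2 = 1 + (idx^2 - 1)`
  have h1 : ∑ t ∈ S, idx t ^ 2 = S.card + ∑ t ∈ S, (idx t ^ 2 - 1) := by
    rw [Finset.card_eq_sum_ones, ← Finset.sum_add_distrib]
    refine Finset.sum_congr rfl (fun t _ => ?_)
    have := idx_pos t
    have : 1 ≤ idx t ^ 2 := Nat.one_le_pow _ _ (by omega)
    omega
  have hcard : S.card = A q n n := by
    rw [← (card_T F n n).2, hS, Nat.card_coe_set_eq, Set.ncard_eq_toFinset_card _ hT]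
  -- fibrewise
  have h2 : ∑ t ∈ S, (idx t ^ 2 - 1) =
      ∑ d ∈ Dv, (d ^ 2 - 1) * (S.filter (fun t => idx t = d)).card := by
    rw [← Finset.sum_fiberwise_of_maps_to (g := fun t => idx t) hmem]
    refine Finset.sum_congr rfl (fun d _ => ?_)
    rw [mul_comm, ← smul_eq_mul, ← Finset.sum_const]
    refine Finset.sum_congr rfl (fun t ht => ?_)
    rw [(Finset.mem_filter.1 ht).2]
  have h3 : ∑ d ∈ Dv, (d ^ 2 - 1) * (S.filter (fun t => idx t = d)).card =
      ∑ d ∈ Dv.filter (fun d => 2 ≤ d), (d ^ 2 - 1) * (S.filter (fun t => idx t = d)).card := by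
    rw [Finset.sum_filter]
    refine Finset.sum_congr rfl (fun d hd => ?_)
    split_ifs with h
    · rfl
    · have hd1 : d ≠ 0 := by
        rw [hDv, Nat.mem_divisors] at hd
        intro h0
        rw [h0, zero_dvd_iff] at hd
        exact hgcd hd.1
      have : d = 1 := by omega
      rw [this]
      simp
  have h4 : ∀ d ∈ Dv.filter (fun d => 2 ≤ d),
      (d ^ 2 - 1) * (S.filter (fun t => idx t = d)).card ≤
        (d ^ 2 - 1) * A q (n / d) (n / d) := by
    intro d hd
    rw [Finset.mem_filter, hDv, Nat.mem_divisors] at hd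
    refine Nat.mul_le_mul_left _ ?_
    have hdn : d ∣ n := hd.1.1.trans (Nat.gcd_dvd_left _ _)
    refine le_trans ?_ (card_parts_dvd_le F n d (by omega) hdn)
    have hfin : Finite {t : ℕ → F[X] // t ∈ T F n n ∧ ∀ m ∈ parts t, d ∣ m} := by
      have : Finite (T F n n) := hT
      exact Finite.of_injective
        (fun x : {t : ℕ → F[X] // t ∈ T F n n ∧ ∀ m ∈ parts t, d ∣ m} =>
          (⟨x.1, x.2.1⟩ : T F n n))
        (fun x y hxy => Subtype.ext (congrArg (fun z : T F n n => (z : ℕ → F[X])) hxy))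
    rw [← Nat.card_eq_finsetCard]
    refine Nat.card_le_card_of_injective
      (fun x : {t // t ∈ S.filter (fun t => idx t = d)} =>
        (⟨x.1, by
          have h := (Finset.mem_filter.1 x.2)
          refine ⟨(Set.Finite.mem_toFinset hT).1 h.1, fun m hm => ?_⟩
          rw [← h.2]
          exact (idx_dvd x.1).2 m hm⟩ :
          {t : ℕ → F[X] // t ∈ T F n n ∧ ∀ m ∈ parts t, d ∣ m})) ?_
    intro x y hxy
    exact Subtype.ext (congrArg (fun z : {t : ℕ → F[X] // t ∈ T F n n ∧ ∀ m ∈ parts t, d ∣ m} =>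
      (z : ℕ → F[X])) hxy)
  rw [h1, hcard, h2, h3]
  exact Nat.add_le_add_left (Finset.sum_le_sum h4) _

end Cfsg.Agent.S2479P
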